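import Groth.Agent.Lib.ZarCoh.FlatBC.Main

/-!
# The flat base change isomorphism on `Coh.HH`
-/

set_option autoImplicit false
set_option linter.style.haveILetI false
universe u

open CategoryTheory CategoryTheory.Limits CategoryTheory.Abelian AlgebraicGeometry Opposite
open TopologicalSpace
open Groth.Agent.Lib Groth.Agent.Lib.ZarCoh Groth.Agent.Lib.ZarCoh.Basic
open scoped TensorProduct

namespace ZarCoh.FlatBC.Equiv

open ZarCoh.FlatBC.Main

variable {A B : Type u} [CommRing A] [CommRing B] [Algebra A B]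
variable {X X' : Scheme.{u}} [X.Over (Spec (CommRingCat.of A))]
  [X'.Over (Spec (CommRingCat.of B))] {g' : X' ⟶ X}
variable (h : IsPullback g' (X' ↘ Spec (CommRingCat.of B)) (X ↘ Spec (CommRingCat.of A))
  (Spec.map (CommRingCat.ofHom (algebraMap A B))))
variable (M : X.Modules) [M.IsQuasicoherent]

local notation "p" => (X ↘ Spec (CommRingCat.of A))
local notation "p'" => (X' ↘ Spec (CommRingCat.of B))

/-- The identification `H^n(X, M) = Ext(ℤ_X, M)`, linearly over the base. -/
noncomputable def hTopLin (n : ℕ) :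
    letI := actModule (ρ p M) (Zs.obj (⊤ : X.Opens)) n
    Coh.HH X M n ≃ₗ[A] Ext.{u} (Zs.obj (⊤ : X.Opens)) (Coh.toAb M) n :=
  letI := actModule (ρ p M) (Zs.obj (⊤ : X.Opens)) n
  { Compare.hTop (Coh.toAb M) n with
    map_smul' := fun a x => by
      show Compare.hTop (Coh.toAb M) n (Sheaf.H.map (Coh.smulAb M (Coh.toGlobal p a)) n x) = _
      rw [Sheaf.H.map_apply, Compare.hTop_comp]
      rfl }

include h in
/-- The base change isomorphism, given bijectivity of the comparison maps. -/
theorem nonempty_linearEquiv_of_bij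
    (hb : Bij (ρ p M) B (σ p' g' M) (σ_smul h M) (Zs.obj (⊤ : X.Opens))) (n : ℕ) :
    Nonempty (B ⊗[A] Coh.HH X M n ≃ₗ[B] Coh.HH X' ((Scheme.Modules.pullback g').obj M) n) := by
  haveI := isAffineHom_fst h
  haveI : (((Scheme.Modules.pullback g').obj M)).IsQuasicoherent := QCoh.Pullback.isQCoh_pullback g' M
  let := actModule (ρ p M) (Zs.obj (⊤ : X.Opens)) n
  let α : B ⊗[A] Coh.HH X M n ≃+ Ext.{u} (Zs.obj (⊤ : X.Opens))
      (Coh.toAb ((Coh.push g').obj ((Scheme.Modules.pullback g').obj M))) n :=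
    ((hTopLin M n).lTensor B).toAddEquiv.trans (AddEquiv.ofBijective _ (hb n))
  let β : B ⊗[A] Coh.HH X M n ≃+ Coh.HH X' ((Scheme.Modules.pullback g').obj M) n :=
    (α.trans (Compare.hTop (Coh.toAb ((Coh.push g').obj ((Scheme.Modules.pullback g').obj M))) n).symm).trans
      (ZarCoh.Morph.affineEquiv g' ((Scheme.Modules.pullback g').obj M) n)
  have hβ : ∀ (b : B) (x : Coh.HH X M n), β (b ⊗ₜ x) = Coh.toGlobal p' b •
      ZarCoh.Morph.affineEquiv g' ((Scheme.Modules.pullback g').obj M) n (Sheaf.H.map (η (g' := g') M) n x) := by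
    intro b x
    show ZarCoh.Morph.affineEquiv g' ((Scheme.Modules.pullback g').obj M) n ((Compare.hTop _ n).symm
      ((hTopLin (A := A) M n x).comp (Ext.mk₀ (η M ≫ smulUp M (Coh.toGlobal p' b))) (add_zero n))) = _
    have e : (Compare.hTop _ n).symm
        ((hTopLin (A := A) M n x).comp (Ext.mk₀ (η M ≫ smulUp M (Coh.toGlobal p' b))) (add_zero n)) =
        Sheaf.H.map (smulUp M (Coh.toGlobal p' b)) n (Sheaf.H.map (η (g' := g') M) n x) := by
      rw [AddEquiv.symm_apply_eq, Sheaf.H.map_apply, Sheaf.H.map_apply, Compare.hTop_comp,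
        Compare.hTop_comp, Ext.comp_assoc_of_second_deg_zero, Ext.mk₀_comp_mk₀]
      rfl
    rw [e]
    exact ZarCoh.PushH.pushH_natural g'.base (Coh.smulAb ((Scheme.Modules.pullback g').obj M) (Coh.toGlobal p' b)) n _
  refine ⟨β.toLinearEquiv fun c z => ?_⟩
  induction z using TensorProduct.induction_on with
  | zero => simp
  | tmul b x =>
    rw [TensorProduct.smul_tmul', hβ, hβ, smul_eq_mul, map_mul, mul_smul]
    rfl
  | add z z' hz hz' => simp only [smul_add, map_add, hz, hz']

include h in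
/-- The base change isomorphism for flat `B` and quasi-compact quasi-separated `X`. -/
theorem nonempty_linearEquiv [Module.Flat A B] [CompactSpace X] [QuasiSeparatedSpace X] (n : ℕ) :
    Nonempty (B ⊗[A] Coh.HH X M n ≃ₗ[B]
      Coh.HH X' ((Scheme.Modules.pullback g').obj M) n) :=
  nonempty_linearEquiv_of_bij h M (bij_top h M) n

end ZarCoh.FlatBC.Equiv
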