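import Groth.Agent.Lib.DerivedOX.PullbackStalk
import Groth.Agent.Lib.StalkLoc.Basic
import Groth.Agent.Lib.QCoh.Pullback
import Mathlib.RingTheory.LocalProperties.Exactness
import Mathlib.RingTheory.Localization.BaseChange

/-!
# Sections of an inverse image on affine opens

For `U ⊆ X` and `U' ⊆ f⁻¹U` affine and `M` quasi-coherent,
`Γ(U', O) ⊗_{Γ(U, O)} Γ(U, M) → Γ(U', f^* M)` is bijective.
-/

set_option autoImplicit false
set_option linter.style.haveILetI false
universe u

open CategoryTheory CategoryTheory.Limits AlgebraicGeometry Opposite TopologicalSpace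
open scoped TensorProduct

namespace ZarCoh.FlatBC.PullbackSections

open Groth.Agent.Lib Groth.Agent.Lib.DerivedOX.PullbackStalk Groth.Agent.Lib.Modules.StalkModule

theorem isLocalizedModule_of_baseChange {R R' O O' N Np Q : Type u} [CommRing R] [CommRing R']
    [CommRing O] [CommRing O'] [Algebra R R'] [Algebra R O] [Algebra R' O'] [Algebra O O']
    [Algebra R O'] [IsScalarTower R R' O'] [IsScalarTower R O O'] (p : Submonoid R)
    [IsLocalization p O] (q : Submonoid R') [IsLocalization q O']
    [AddCommGroup N] [Module R N] [AddCommGroup Np] [Module R Np] [Module O Np]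
    [IsScalarTower R O Np] (g : N →ₗ[R] Np) [IsLocalizedModule p g]
    [AddCommGroup Q] [Module R Q] [Module R' Q] [Module O Q] [Module O' Q]
    [IsScalarTower R R' Q] [IsScalarTower R O Q] [IsScalarTower R O' Q] [IsScalarTower R' O' Q]
    [IsScalarTower O O' Q] (u : Np →ₗ[O] Q) (hu : IsBaseChange O' u)
    (ψ : R' ⊗[R] N →ₗ[R'] Q) (hψ : ∀ n, ψ (1 ⊗ₜ n) = u (g n)) : IsLocalizedModule q ψ := by
  have hg : IsBaseChange O g := (isLocalizedModule_iff_isBaseChange p O g).mp inferInstance
  have hT : IsBaseChange R' (TensorProduct.mk R R' N 1) := TensorProduct.isBaseChange R N R'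
  refine (isLocalizedModule_iff_isBaseChange q O' ψ).mpr (IsBaseChange.of_comp hT ?_)
  convert IsBaseChange.comp hg hu using 1
  ext n
  exact hψ n

variable {X Y : Scheme.{u}} (f : X ⟶ Y) (M : Y.Modules) {U : Y.Opens} {V : X.Opens}

/-- The restricted unit on sections. -/
noncomputable def pbRes (e : V ≤ f ⁻¹ᵁ U) :
    Γ(M, U) →+ Γ((Scheme.Modules.pullback f).obj M, V) :=
  (((Scheme.Modules.pullback f).obj M).presheaf.map (homOfLE e).op).hom.comp
    (((Scheme.Modules.pullbackPushforwardAdjunction f).unit.app M).app U).hom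

theorem pbRes_smul (e : V ≤ f ⁻¹ᵁ U) (r : Γ(Y, U)) (m : Γ(M, U)) :
    pbRes f M e (r • m) = f.appLE U V e r • pbRes f M e m := by
  show ((Scheme.Modules.pullback f).obj M).presheaf.map (homOfLE e).op
      (((Scheme.Modules.pullbackPushforwardAdjunction f).unit.app M).app U (r • m)) = _
  rw [Scheme.Modules.Hom.app_smul]
  exact ((Scheme.Modules.pullback f).obj M).map_smul (homOfLE e) (f.app U r) _

/-- The multiplication map. -/
noncomputable def pbTensor (e : V ≤ f ⁻¹ᵁ U) :
    letI := (f.appLE U V e).hom.toAlgebra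
    Γ(X, V) ⊗[Γ(Y, U)] Γ(M, U) →ₗ[Γ(X, V)] Γ((Scheme.Modules.pullback f).obj M, V) :=
  letI := (f.appLE U V e).hom.toAlgebra
  letI : Module Γ(Y, U) Γ((Scheme.Modules.pullback f).obj M, V) :=
    Module.compHom _ (f.appLE U V e).hom
  haveI : IsScalarTower Γ(Y, U) Γ(X, V) Γ((Scheme.Modules.pullback f).obj M, V) :=
    ⟨fun r a v => mul_smul (f.appLE U V e r) a v⟩
  LinearMap.liftBaseChange Γ(X, V)
    { pbRes f M e with map_smul' := fun r m => pbRes_smul f M e r m }

theorem pbTensor_tmul (e : V ≤ f ⁻¹ᵁ U) (s : Γ(X, V)) (m : Γ(M, U)) :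
    letI := (f.appLE U V e).hom.toAlgebra
    pbTensor f M e (s ⊗ₜ m) = s • pbRes f M e m := rfl

/-- Sections of the inverse image on an affine open are the base change of the sections. -/
theorem bijective_pbTensor [M.IsQuasicoherent] (hU : IsAffineOpen U) (hV : IsAffineOpen V)
    (e : V ≤ f ⁻¹ᵁ U) : Function.Bijective (pbTensor f M e) := by
  let R := Γ(Y, U); let R' := Γ(X, V)
  let N := Γ(M, U)
  let P := Γ((Scheme.Modules.pullback f).obj M, V)
  haveI := QCoh.Pullback.isQCoh_pullback f M
  letI : Algebra R R' := (f.appLE U V e).hom.toAlgebra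
  have hpt : ∀ J : Ideal R', J.IsMaximal → ∃ (x : X) (hx : x ∈ V),
      (hV.primeIdealOf ⟨x, hx⟩).asIdeal = J := fun J hJ => by
    let q : PrimeSpectrum R' := ⟨J, hJ.isPrime⟩
    have hq : hV.fromSpec q ∈ V := by
      have := Set.mem_range_self (f := ⇑hV.fromSpec) q
      rwa [hV.range_fromSpec] at this
    refine ⟨_, hq, ?_⟩
    have h1 : hV.fromSpec (hV.primeIdealOf ⟨_, hq⟩) = hV.fromSpec q := hV.fromSpec_primeIdealOf _
    exact congrArg PrimeSpectrum.asIdeal (hV.fromSpec.isOpenEmbedding.injective h1)
  choose pt hpt hJ using hpt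
  let Q : ∀ (J : Ideal R') [J.IsMaximal], Type u := fun J hJ =>
    ((Scheme.Modules.pullback f).obj M).presheaf.stalk (pt J hJ)
  letI : ∀ (J : Ideal R') [h : J.IsMaximal], AddCommGroup (Q J) := fun J h =>
    inferInstanceAs (AddCommGroup (((Scheme.Modules.pullback f).obj M).presheaf.stalk (pt J h)))
  letI : ∀ (J : Ideal R') [h : J.IsMaximal], Module R' (Q J) := fun J h =>
    StalkLoc.Basic.moduleSections ((Scheme.Modules.pullback f).obj M) (hpt J h)
  let γ : ∀ (J : Ideal R') [h : J.IsMaximal], P →ₗ[R'] Q J := fun J h =>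
    StalkLoc.Basic.germₗ ((Scheme.Modules.pullback f).obj M) (hpt J h)
  haveI hγ : ∀ (J : Ideal R') [h : J.IsMaximal], IsLocalizedModule.AtPrime J (γ J) := fun J h => by
    have := StalkLoc.Basic.isLocalizedModule_germ (M := (Scheme.Modules.pullback f).obj M) hV (hpt J h)
    rwa [IsLocalizedModule.AtPrime, ← show (hV.primeIdealOf ⟨_, hpt J h⟩).asIdeal.primeCompl =
      J.primeCompl by simp only [hJ J h]]
  haveI hψ : ∀ (J : Ideal R') [h : J.IsMaximal],
      IsLocalizedModule.AtPrime J ((γ J).comp (pbTensor f M e)) := fun J h => by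
    have hx : pt J h ∈ V := hpt J h
    have hy : f (pt J h) ∈ U := e hx
    let O := Y.presheaf.stalk (f (pt J h))
    let O' := X.presheaf.stalk (pt J h)
    letI : Algebra R O := TopCat.Presheaf.algebra_section_stalk Y.presheaf ⟨_, hy⟩
    letI : Algebra R' O' := TopCat.Presheaf.algebra_section_stalk X.presheaf ⟨_, hx⟩
    letI : Algebra O O' := (f.stalkMap (pt J h)).hom.toAlgebra
    letI : Algebra R O' := ((algebraMap R' O').comp (algebraMap R R')).toAlgebra
    haveI : IsScalarTower R R' O' := IsScalarTower.of_algebraMap_eq fun _ => rfl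
    haveI : IsScalarTower R O O' := IsScalarTower.of_algebraMap_eq fun r => by
      show X.presheaf.germ V (pt J h) hx (f.appLE U V e r) =
        f.stalkMap (pt J h) (Y.presheaf.germ U (f (pt J h)) hy r)
      rw [Scheme.Hom.germ_stalkMap_apply]
      exact TopCat.Presheaf.germ_res_apply X.presheaf (homOfLE e) (pt J h) hx (f.app U r)
    haveI := hU.isLocalization_stalk ⟨_, hy⟩
    haveI := hV.isLocalization_stalk ⟨_, hx⟩
    letI : Module R (M.presheaf.stalk (f (pt J h))) := StalkLoc.Basic.moduleSections M hy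
    haveI : IsScalarTower R O (M.presheaf.stalk (f (pt J h))) :=
      StalkLoc.Basic.isScalarTower_sections M hy
    haveI := StalkLoc.Basic.isLocalizedModule_germ (M := M) hU hy
    letI : Module O (Q J) := Module.compHom _ (algebraMap O O')
    letI : Module R (Q J) := Module.compHom _ (algebraMap R R')
    letI : Module O' (Q J) :=
      inferInstanceAs (Module O' (((Scheme.Modules.pullback f).obj M).presheaf.stalk (pt J h)))
    haveI : IsScalarTower R' O' (Q J) :=
      StalkLoc.Basic.isScalarTower_sections ((Scheme.Modules.pullback f).obj M) hx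
    haveI : IsScalarTower R R' (Q J) := IsScalarTower.of_algebraMap_smul fun _ _ => rfl
    haveI : IsScalarTower O O' (Q J) := IsScalarTower.of_algebraMap_smul fun _ _ => rfl
    haveI : IsScalarTower R O' (Q J) := IsScalarTower.of_algebraMap_smul fun _ _ => rfl
    haveI : IsScalarTower R O (Q J) := IsScalarTower.of_algebraMap_smul fun r v => by
      show algebraMap O O' (algebraMap R O r) • v = algebraMap R O' r • v
      rw [← IsScalarTower.algebraMap_apply R O O']
    let u : M.presheaf.stalk (f (pt J h)) →ₗ[O] Q J :=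
      { toFun := fun a => pushStalkMap f (pt J h) _
          (stalkMapₗ ((Scheme.Modules.pullbackPushforwardAdjunction f).unit.app M) (f (pt J h)) a)
        map_add' := fun a b =>
          (congrArg (pushStalkMap f (pt J h) _) (map_add _ a b)).trans (map_add _ _ _)
        map_smul' := fun c a => by
          rw [map_smul]
          exact pushStalkMap_smul f (pt J h) _ c _ }
    have hu : IsBaseChange O' u :=
      IsBaseChange.of_equiv (((asIso (comparison f (pt J h))).app M).toLinearEquiv)
        (fun a => comparison_one_tmul f (pt J h) M a)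
    have := isLocalizedModule_of_baseChange (hU.primeIdealOf ⟨_, hy⟩).asIdeal.primeCompl
      (hV.primeIdealOf ⟨_, hx⟩).asIdeal.primeCompl (StalkLoc.Basic.germₗ M hy) u hu
      ((γ J).comp (pbTensor f M e)) (fun n => by
        show ((Scheme.Modules.pullback f).obj M).presheaf.germ V (pt J h) hx
            (pbTensor f M e ((1 : R') ⊗ₜ n)) =
          pushStalkMap f (pt J h) _ (stalkMapₗ _ (f (pt J h)) (M.presheaf.germ U _ hy n))
        rw [pbTensor_tmul, one_smul, stalkMapₗ_germ, pushStalkMap_germ]
        exact TopCat.Presheaf.germ_res_apply _ (homOfLE e) (pt J h) hx _)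
    rwa [IsLocalizedModule.AtPrime, ← show (hV.primeIdealOf ⟨_, hx⟩).asIdeal.primeCompl =
      J.primeCompl by simp only [hJ J h]]
  refine bijective_of_isLocalized_maximal Q (fun J _ => (γ J).comp (pbTensor f M e)) Q γ
    (pbTensor f M e) fun J _ => ?_
  have hid : IsLocalizedModule.map J.primeCompl ((γ J).comp (pbTensor f M e)) (γ J)
      (pbTensor f M e) = LinearMap.id :=
    IsLocalizedModule.ext J.primeCompl ((γ J).comp (pbTensor f M e))
      (IsLocalizedModule.map_units ((γ J).comp (pbTensor f M e)))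
      (by rw [IsLocalizedModule.map_comp, LinearMap.id_comp])
  rw [hid]
  exact Function.bijective_id

end ZarCoh.FlatBC.PullbackSections
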