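import Groth.Agent.Lib.ZarCoh.FlatBC.Ext
import Groth.Agent.Lib.ZarCoh.FlatBC.PullbackSections
import Groth.Agent.Lib.ZarCoh.Morph
import Groth.Agent.Lib.QCoh.Pushforward
import Groth.Agent.Lib.CohDelta.Basic
import Mathlib.RingTheory.IsTensorProduct

/-!
# Flat base change for cohomology over an affine base
-/

set_option autoImplicit false
set_option linter.style.haveILetI false
universe u

open CategoryTheory CategoryTheory.Limits CategoryTheory.Abelian AlgebraicGeometry Opposite
open TopologicalSpace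
open Groth.Agent.Lib Groth.Agent.Lib.ZarCoh Groth.Agent.Lib.ZarCoh.Basic
open scoped TensorProduct

namespace ZarCoh.FlatBC.Main

/-- Cancelling the pushout: `B ⊗_A N → P` is bijective if `R' ⊗_R N → P` is. -/
theorem bijective_of_isPushout {A B R R' N P : Type u} [CommRing A] [CommRing B] [CommRing R]
    [CommRing R'] [Algebra A B] [Algebra A R] [Algebra A R'] [Algebra B R'] [Algebra R R']
    [IsScalarTower A B R'] [IsScalarTower A R R'] [Algebra.IsPushout A B R R']
    [AddCommGroup N] [Module A N] [Module R N] [IsScalarTower A R N]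
    [AddCommGroup P] [Module R' P] (c : R' ⊗[R] N →ₗ[R'] P) (hc : Function.Bijective c)
    (d : B ⊗[A] N →+ P) (hd : ∀ b n, d (b ⊗ₜ n) = algebraMap B R' b • c (1 ⊗ₜ n)) :
    Function.Bijective d := by
  let a := (Algebra.IsPushout.cancelBaseChangeAux A B R R' N).symm
  have e : ∀ z, d z = c (a z) := by
    intro z
    induction z using TensorProduct.induction_on with
    | zero => simp
    | tmul b n =>
      rw [hd, ← map_smul, TensorProduct.smul_tmul', smul_eq_mul, mul_one]
      exact congrArg c (Algebra.IsPushout.cancelBaseChangeAux_symm_tmul A B R R' N b n).symm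
    | add z z' hz hz' => rw [map_add, map_add, map_add, hz, hz']
  exact (funext e : ⇑d = c ∘ a) ▸ hc.comp a.bijective

variable {A B : Type u} [CommRing A] [CommRing B] [Algebra A B]
variable {X X' : Scheme.{u}} {p : X ⟶ Spec (CommRingCat.of A)} {p' : X' ⟶ Spec (CommRingCat.of B)}
variable {g' : X' ⟶ X}
variable (h : IsPullback g' p' p (Spec.map (CommRingCat.ofHom (algebraMap A B))))
variable (M : X.Modules)

/-- Functions of the base on an open. -/
noncomputable abbrev baseMap {A : Type u} [CommRing A] {X : Scheme.{u}}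
    (p : X ⟶ Spec (CommRingCat.of A)) (U : X.Opens) : A →+* Γ(X, U) :=
  (Coh.resTop X (op U)).comp (Coh.toGlobal p)

include h in
theorem toGlobal_comm (a : A) :
    Coh.toGlobal p' (algebraMap A B a) = g'.appTop (Coh.toGlobal p a) := by
  have e : (Scheme.ΓSpecIso (CommRingCat.of A)).inv ≫
      (Spec.map (CommRingCat.ofHom (algebraMap A B))).appTop =
      CommRingCat.ofHom (algebraMap A B) ≫ (Scheme.ΓSpecIso (CommRingCat.of B)).inv :=
    (Scheme.ΓSpecIso_inv_naturality _).symm
  show p'.appTop ((Scheme.ΓSpecIso (CommRingCat.of B)).inv (algebraMap A B a)) = _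
  rw [show (Scheme.ΓSpecIso (CommRingCat.of B)).inv (algebraMap A B a) =
    (Spec.map (CommRingCat.ofHom (algebraMap A B))).appTop
      ((Scheme.ΓSpecIso (CommRingCat.of A)).inv a) from (congr($e a)).symm]
  have w : (g' ≫ p).appTop = (p' ≫ Spec.map (CommRingCat.ofHom (algebraMap A B))).appTop := by
    rw [h.w]
  exact (congr($w ((Scheme.ΓSpecIso (CommRingCat.of A)).inv a))).symm

theorem app_baseMap {U : X.Opens} (r : Coh.Γtop X) :
    g'.app U (Coh.resTop X (op U) r) = Coh.resTop X' (op (g' ⁻¹ᵁ U)) (g'.appTop r) :=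
  ConcreteCategory.congr_hom (g'.naturality (homOfLE (le_top (a := U))).op) r

include h in
theorem isAffineHom_fst : IsAffineHom g' :=
  MorphismProperty.of_isPullback h.flip (inferInstance :
    IsAffineHom (Spec.map (CommRingCat.ofHom (algebraMap A B))))

include h in
theorem isPushout_sections {U : X.Opens} (hU : IsAffineOpen U) :
    IsPushout (CommRingCat.ofHom (algebraMap A B)) (CommRingCat.ofHom (baseMap p U))
      (CommRingCat.ofHom (baseMap p' (g' ⁻¹ᵁ U))) (g'.app U) := by
  haveI := isAffineHom_fst h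
  haveI : IsAffine (U : Scheme.{u}) := hU
  have sq := (isPullback_morphismRestrict g' U).flip.paste_horiz h.flip
  have po := isPushout_appTop_of_isPullback sq
  refine po.of_iso (Scheme.ΓSpecIso (CommRingCat.of A)) (Scheme.ΓSpecIso (CommRingCat.of B))
    U.topIso (g' ⁻¹ᵁ U).topIso ?_ ?_ ?_ ?_
  · exact Scheme.ΓSpecIso_naturality _
  · rw [← cancel_epi (Scheme.ΓSpecIso (CommRingCat.of A)).inv, Iso.inv_hom_id_assoc]
    ext a
    show U.topIso.hom ((U.ι ≫ p).appTop ((Scheme.ΓSpecIso (CommRingCat.of A)).inv a)) = _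
    show (X.presheaf.map _) ((X.presheaf.map _) (p.appTop ((Scheme.ΓSpecIso (CommRingCat.of A)).inv a))) = _
    rw [← CommRingCat.comp_apply, ← Functor.map_comp]
    rfl
  · rw [← cancel_epi (Scheme.ΓSpecIso (CommRingCat.of B)).inv, Iso.inv_hom_id_assoc]
    ext b
    show (g' ⁻¹ᵁ U).topIso.hom (((g' ⁻¹ᵁ U).ι ≫ p').appTop ((Scheme.ΓSpecIso (CommRingCat.of B)).inv b)) = _
    show (X'.presheaf.map _) ((X'.presheaf.map _) (p'.appTop ((Scheme.ΓSpecIso (CommRingCat.of B)).inv b))) = _
    rw [← CommRingCat.comp_apply, ← Functor.map_comp]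
    rfl
  · rw [morphismRestrict_appTop]
    ext r
    show (X'.presheaf.map _) ((X'.presheaf.map _) (g'.app (U.ι ''ᵁ ⊤) r)) =
      g'.app U (X.presheaf.map _ r)
    rw [← CommRingCat.comp_apply, ← Functor.map_comp]
    exact (ConcreteCategory.congr_hom (g'.naturality (eqToHom U.ι_image_top.symm).op) r).symm

variable (p) in
/-- The action of the base on the abelian sheaf of a module. -/
noncomputable def ρ : A →+* End (Coh.toAb M) where
  toFun a := Coh.smulAb M (Coh.toGlobal p a)
  map_one' := by rw [map_one, Coh.smulAb_one]; rfl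
  map_mul' a b := by rw [map_mul, Coh.smulAb_mul]; rfl
  map_zero' := by rw [map_zero, Coh.smulAb_zero]
  map_add' a b := by rw [map_add, Coh.smulAb_add]

/-- The unit on abelian sheaves. -/
noncomputable abbrev η : Coh.toAb M ⟶ Coh.toAb ((Coh.push g').obj ((Scheme.Modules.pullback g').obj M)) :=
  CohDelta.Basic.abMap ((Scheme.Modules.pullbackPushforwardAdjunction g').unit.app M)

/-- Multiplication upstairs, on the direct image. -/
noncomputable abbrev smulUp (r : Coh.Γtop X') :
    Coh.toAb ((Coh.push g').obj ((Scheme.Modules.pullback g').obj M)) ⟶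
      Coh.toAb ((Coh.push g').obj ((Scheme.Modules.pullback g').obj M)) :=
  (CohTop.push g'.base).map (Coh.smulAb ((Scheme.Modules.pullback g').obj M) r)

variable (g' p') in
/-- The scalar family `b ↦ b • η`. -/
noncomputable def σ : B →+ (Coh.toAb M ⟶ Coh.toAb ((Coh.push g').obj ((Scheme.Modules.pullback g').obj M))) where
  toFun b := η M ≫ smulUp M (Coh.toGlobal p' b)
  map_zero' := by
    ext U m
    show _ = (0 : ((Scheme.Modules.pullback g').obj M).val.obj _)
    exact (congrArg (· • _) ((congrArg _ (map_zero _)).trans (map_zero _))).trans (zero_smul _ _)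
  map_add' b b' := by
    rw [map_add, smulUp, Coh.smulAb_add]
    exact (congrArg (η M ≫ ·) ((CohTop.push g'.base).map_add)).trans
      (Preadditive.comp_add _ _ _ _ _ _)

include h in
theorem σ_smul (a : A) (b : B) : σ p' g' M (a • b) = ρ p M a ≫ σ p' g' M b := by
  show η M ≫ smulUp M (Coh.toGlobal p' (a • b)) = Coh.smulAb M (Coh.toGlobal p a) ≫ η M ≫ smulUp M _
  have hn : Coh.smulAb M (Coh.toGlobal p a) ≫ η (g' := g') M =
      η M ≫ Coh.smulAb ((Coh.push g').obj ((Scheme.Modules.pullback g').obj M)) (Coh.toGlobal p a) := by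
    ext U m
    exact (((Scheme.Modules.pullbackPushforwardAdjunction g').unit.app M).val.app U).hom.map_smul
      (Coh.resTop X U (Coh.toGlobal p a)) m
  rw [reassoc_of% hn, ZarCoh.Morph.push_smulAb g' _ _ _ (toGlobal_comm h a), smulUp, smulUp]
  refine congrArg (η M ≫ ·) ((congrArg (CohTop.push g'.base).map ?_).trans
    (Functor.map_comp _ _ _))
  rw [← Coh.smulAb_mul, ← map_mul, Algebra.smul_def, mul_comm]

/-- Degree zero on affine opens. -/
theorem bijective_degree_zero [M.IsQuasicoherent] {U : X.Opens} (hU : IsAffineOpen U) :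
    Function.Bijective (Φ (ρ p M) B (σ p' g' M) (σ_smul h M) (Zs.obj U) 0) := by
  haveI := isAffineHom_fst h
  let V := g' ⁻¹ᵁ U
  let R := Γ(X, U); let R' := Γ(X', V)
  let N := (Scheme.Modules.pullback g').obj M
  letI : Algebra A R := (baseMap p U).toAlgebra
  letI : Algebra B R' := (baseMap p' V).toAlgebra
  letI : Algebra A R' := ((algebraMap B R').comp (algebraMap A B)).toAlgebra
  haveI : IsScalarTower A B R' := IsScalarTower.of_algebraMap_eq fun _ => rfl
  letI : Algebra R R' := (g'.appLE U V le_rfl).hom.toAlgebra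
  haveI : IsScalarTower A R R' := IsScalarTower.of_algebraMap_eq fun a => by
    show Coh.resTop X' (op V) (Coh.toGlobal p' (algebraMap A B a)) =
      g'.appLE U V le_rfl (Coh.resTop X (op U) (Coh.toGlobal p a))
    rw [toGlobal_comm h, ← app_baseMap, Scheme.Hom.appLE_eq_app]
  haveI : Algebra.IsPushout A B R R' := CommRingCat.isPushout_iff_isPushout.mp (by
    have := isPushout_sections h hU
    rw [← Scheme.Hom.appLE_eq_app] at this
    exact this)
  letI : Module A Γ(M, U) := Module.compHom _ (algebraMap A R)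
  haveI : IsScalarTower A R Γ(M, U) := IsScalarTower.of_algebraMap_smul fun _ _ => rfl
  let := actModule (ρ p M) (Zs.obj U) 0
  let e₀ : Ext.{u} (Zs.obj U) (Coh.toAb M) 0 ≃ Γ(M, U) :=
    ((Equiv.ofBijective _ (Ext.mk₀_bijective (Zs.obj U) (Coh.toAb M))).symm).trans (homEquiv U (Coh.toAb M))
  have he₀ : ∀ g, e₀ (Ext.mk₀ g) = homEquiv U (Coh.toAb M) g := fun g =>
    congrArg (homEquiv U (Coh.toAb M)) ((Equiv.ofBijective _ _).symm_apply_apply g)
  let e : Ext.{u} (Zs.obj U) (Coh.toAb M) 0 ≃ₗ[A] Γ(M, U) :=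
    { e₀ with
      map_add' := fun x y => by
        obtain ⟨x, rfl⟩ := (Ext.mk₀_bijective _ _).2 x
        obtain ⟨y, rfl⟩ := (Ext.mk₀_bijective _ _).2 y
        show e₀ _ = e₀ _ + e₀ _
        rw [← Ext.mk₀_add, he₀, he₀, he₀]
        exact homEquiv_add x y
      map_smul' := fun a x => by
        obtain ⟨x, rfl⟩ := (Ext.mk₀_bijective _ _).2 x
        show e₀ ((Ext.mk₀ x).comp (Ext.mk₀ (ρ p M a)) (add_zero 0)) = _ • e₀ _
        rw [Ext.mk₀_comp_mk₀, he₀, he₀, homEquiv_comp]
        rfl }
  let E : Ext.{u} (Zs.obj U) (Coh.toAb ((Coh.push g').obj N)) 0 ≃ Γ(N, V) :=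
    ((Equiv.ofBijective _ (Ext.mk₀_bijective (Zs.obj U) _)).symm).trans
      (homEquiv U (Coh.toAb ((Coh.push g').obj N)))
  have hE : ∀ g, E (Ext.mk₀ g) = homEquiv U (Coh.toAb ((Coh.push g').obj N)) g := fun g =>
    congrArg (homEquiv U (Coh.toAb ((Coh.push g').obj N))) ((Equiv.ofBijective _ _).symm_apply_apply g)
  let E' : Ext.{u} (Zs.obj U) (Coh.toAb ((Coh.push g').obj N)) 0 →+ Γ(N, V) :=
    AddMonoidHom.mk' E fun x y => by
      obtain ⟨x, rfl⟩ := (Ext.mk₀_bijective _ _).2 x
      obtain ⟨y, rfl⟩ := (Ext.mk₀_bijective _ _).2 y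
      rw [← Ext.mk₀_add, hE, hE, hE]
      exact homEquiv_add x y
  let d : B ⊗[A] Γ(M, U) →+ Γ(N, V) :=
    E'.comp ((Φ (ρ p M) B (σ p' g' M) (σ_smul h M) (Zs.obj U) 0).comp
      (e.symm.toLinearMap.lTensor B).toAddMonoidHom)
  have hd : Function.Bijective d := by
    refine bijective_of_isPushout (PullbackSections.pbTensor g' M le_rfl)
      (PullbackSections.bijective_pbTensor g' M hU (hU.preimage g') le_rfl) d fun b n => ?_
    obtain ⟨g, hg⟩ := (Ext.mk₀_bijective _ _).2 (e.symm n)
    have hn : n = homEquiv U (Coh.toAb M) g := by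
      rw [← he₀, hg]
      exact (e.apply_symm_apply n).symm
    show E (Φ (ρ p M) B (σ p' g' M) (σ_smul h M) (Zs.obj U) 0 (b ⊗ₜ e.symm n)) = _
    rw [← hg, Φ_tmul, Ext.mk₀_comp_mk₀, hE, homEquiv_comp, PullbackSections.pbTensor_tmul, one_smul, hn]
    show baseMap p' V b • (show Γ(N, V) from _) = baseMap p' V b • PullbackSections.pbRes g' M le_rfl _
    congr 1
    exact (congr($(N.presheaf.map_id (op V)) _)).symm
  have hl : Function.Bijective (e.symm.toLinearMap.lTensor B) :=
    (LinearEquiv.lTensor B e.symm).bijective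
  exact ((Function.Bijective.of_comp_iff' E.bijective _).mp
    ((Function.Bijective.of_comp_iff _ hl).mp hd))

/-- Flat base change in `Ext` form. -/
theorem bij_top [M.IsQuasicoherent] [Module.Flat A B] [CompactSpace X] [QuasiSeparatedSpace X] :
    Bij (ρ p M) B (σ p' g' M) (σ_smul h M) (Zs.obj (⊤ : X.Opens)) := by
  haveI := isAffineHom_fst h
  haveI := QCoh.Pullback.isQCoh_pullback g' M
  haveI : ((Coh.push g').obj ((Scheme.Modules.pullback g').obj M)).IsQuasicoherent :=
    QCoh.Pushforward.isQCoh_pushforward g' (M := (Scheme.Modules.pullback g').obj M)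
  exact bij_of_affine (ρ p M) B (σ p' g' M) (σ_smul h M) (fun U hU => bijective_degree_zero h M hU)
    (fun U hU n => ZarCoh.Affine.HU_subsingleton M hU n)
    (fun U hU n => ZarCoh.Affine.HU_subsingleton _ hU n)
    ⊤ (by simpa using (isQuasiSeparated_univ : IsQuasiSeparated (Set.univ : Set X))) ⊤ le_rfl
    (by simpa using isCompact_univ)

end ZarCoh.FlatBC.Main
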