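import Groth.Agent.Lib.ZarCoh.Induction
import Groth.Agent.Lib.ZarCoh.Basic
import Groth.Agent.Lib.ZarCoh.Affine
import Mathlib.Algebra.FiveLemma
import Mathlib.RingTheory.Flat.Basic
import Mathlib.Topology.Sheaves.MayerVietoris
import Mathlib.Algebra.Homology.DerivedCategory.Ext.ExactSequences

/-!
# Flat coefficient change for `Ext` groups of abelian sheaves

For sheaves `F`, `G`, a ring `A` acting on `F`, a flat `A`-module `N` and a balanced
`σ : N → Hom(F, G)`, the maps `N ⊗_A Ext(P, F) → Ext(P, G)` are natural in `P`, and are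
bijective for free sheaves on quasi-compact opens once they are so on affine opens.
-/

set_option autoImplicit false
set_option linter.style.haveILetI false
universe u

open CategoryTheory CategoryTheory.Limits CategoryTheory.Abelian TopologicalSpace AlgebraicGeometry
open scoped TensorProduct

namespace ZarCoh.FlatBC

section Abstract

variable {C : Type*} [Category C] [Abelian C] [HasExt.{u} C]
variable {A : Type u} [CommRing A] {F G : C} (ρ : A →+* End F)
variable (N : Type u) [AddCommGroup N] [Module A N]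

/-- The action of `A` on `Ext(P, F)` as endomorphisms. -/
noncomputable def act (P : C) (n : ℕ) : A →+* AddMonoid.End (Ext.{u} P F n) where
  toFun a := (Ext.mk₀ (ρ a)).postcomp P (add_zero n)
  map_one' := by
    ext x
    change x.comp (Ext.mk₀ (ρ 1)) (add_zero n) = x
    rw [map_one]
    exact Ext.comp_mk₀_id x
  map_mul' a b := by
    ext x
    change x.comp (Ext.mk₀ (ρ (a * b))) (add_zero n) =
      (x.comp (Ext.mk₀ (ρ b)) (add_zero n)).comp (Ext.mk₀ (ρ a)) (add_zero n)
    rw [Ext.comp_assoc_of_second_deg_zero, Ext.mk₀_comp_mk₀, map_mul, End.mul_def]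
  map_zero' := by
    ext x
    change x.comp (Ext.mk₀ (ρ 0)) (add_zero n) = 0
    rw [map_zero, Ext.mk₀_zero, Ext.comp_zero]
  map_add' a b := by
    ext x
    change x.comp (Ext.mk₀ (ρ (a + b))) (add_zero n) =
      x.comp (Ext.mk₀ (ρ a)) (add_zero n) + x.comp (Ext.mk₀ (ρ b)) (add_zero n)
    rw [map_add, Ext.mk₀_add, Ext.comp_add]

/-- `Ext(P, F)` as an `A`-module. -/
noncomputable abbrev actModule (P : C) (n : ℕ) : Module A (Ext.{u} P F n) :=
  Module.compHom _ (act ρ P n)

variable (σ : N →+ (F ⟶ G)) (hσ : ∀ (a : A) (x : N), σ (a • x) = ρ a ≫ σ x)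

/-- The comparison map. -/
noncomputable def Φ (P : C) (n : ℕ) :
    letI := actModule ρ P n
    N ⊗[A] Ext.{u} P F n →+ Ext.{u} P G n :=
  letI := actModule ρ P n
  TensorProduct.liftAddHom
    { toFun := fun x => (Ext.mk₀ (σ x)).postcomp P (add_zero n)
      map_zero' := by ext y; simp [Ext.postcomp]
      map_add' := fun x x' => by ext y; simp [Ext.postcomp, Ext.mk₀_add, Ext.comp_add] }
    (fun a x y => by
      change y.comp (Ext.mk₀ (σ (a • x))) (add_zero n) =
        (y.comp (Ext.mk₀ (ρ a)) (add_zero n)).comp (Ext.mk₀ (σ x)) (add_zero n)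
      rw [Ext.comp_assoc_of_second_deg_zero, Ext.mk₀_comp_mk₀, hσ])

theorem Φ_tmul (P : C) (n : ℕ) (x : N) (y : Ext.{u} P F n) :
    letI := actModule ρ P n
    Φ ρ N σ hσ P n (x ⊗ₜ y) = y.comp (Ext.mk₀ (σ x)) (add_zero n) := rfl

/-- Precomposition, `A`-linearly. -/
noncomputable def pre {P Q : C} {m n p : ℕ} (a : Ext.{u} P Q m) (h : m + n = p) :
    letI := actModule ρ Q n
    letI := actModule ρ P p
    Ext.{u} Q F n →ₗ[A] Ext.{u} P F p :=
  letI := actModule ρ Q n
  letI := actModule ρ P p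
  { a.precomp F h with
    map_smul' := fun c y => (Ext.comp_assoc_of_third_deg_zero a y (Ext.mk₀ (ρ c)) h).symm }

theorem Φ_pre {P Q : C} {m n p : ℕ} (a : Ext.{u} P Q m) (h : m + n = p) :
    letI := actModule ρ Q n
    letI := actModule ρ P p
    (Φ ρ N σ hσ P p).comp ((pre ρ a h).lTensor N).toAddMonoidHom =
      (a.precomp G h).comp (Φ ρ N σ hσ Q n) := by
  let := actModule ρ Q n
  let := actModule ρ P p
  ext z
  induction z using TensorProduct.induction_on with
  | zero => simp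
  | tmul x y => exact (Ext.comp_assoc_of_third_deg_zero a y (Ext.mk₀ (σ x)) h)
  | add z z' hz hz' => simp only [map_add, hz, hz']

/-- The comparison map is bijective in all degrees. -/
def Bij (P : C) : Prop := ∀ n, Function.Bijective (Φ ρ N σ hσ P n)

theorem Φ_pre_apply {P Q : C} {m n p : ℕ} (a : Ext.{u} P Q m) (h : m + n = p)
    (z : letI := actModule ρ Q n; N ⊗[A] Ext.{u} Q F n) :
    letI := actModule ρ Q n
    letI := actModule ρ P p
    Φ ρ N σ hσ P p ((pre ρ a h).lTensor N z) = a.comp (Φ ρ N σ hσ Q n z) h :=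
  DFunLike.congr_fun (Φ_pre ρ N σ hσ a h) z

theorem bij_biprod {P Q : C} (hP : Bij ρ N σ hσ P) (hQ : Bij ρ N σ hσ Q) :
    Bij ρ N σ hσ (P ⊞ Q) := by
  intro n
  let := actModule ρ P n
  let := actModule ρ Q n
  let := actModule ρ (P ⊞ Q) n
  let f := pre ρ (n := n) (Ext.mk₀ (biprod.fst : P ⊞ Q ⟶ P)) (zero_add n)
  let g := pre ρ (n := n) (Ext.mk₀ (biprod.snd : P ⊞ Q ⟶ Q)) (zero_add n)
  let i := pre ρ (n := n) (Ext.mk₀ (biprod.inl : P ⟶ P ⊞ Q)) (zero_add n)
  let j := pre ρ (n := n) (Ext.mk₀ (biprod.inr : Q ⟶ P ⊞ Q)) (zero_add n)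
  have hdec : ∀ w : Ext.{u} (P ⊞ Q) G n,
      (Ext.mk₀ biprod.fst).comp ((Ext.mk₀ biprod.inl).comp w (zero_add n)) (zero_add n) +
        (Ext.mk₀ biprod.snd).comp ((Ext.mk₀ biprod.inr).comp w (zero_add n)) (zero_add n) = w := by
    intro w
    rw [Ext.mk₀_comp_mk₀_assoc, Ext.mk₀_comp_mk₀_assoc, ← Ext.add_comp, ← Ext.mk₀_add,
      biprod.total, Ext.mk₀_id_comp]
  have hid : f.comp i + g.comp j = LinearMap.id := by
    ext w
    show (Ext.mk₀ biprod.fst).comp ((Ext.mk₀ biprod.inl).comp w (zero_add n)) (zero_add n) +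
        (Ext.mk₀ biprod.snd).comp ((Ext.mk₀ biprod.inr).comp w (zero_add n)) (zero_add n) = w
    rw [Ext.mk₀_comp_mk₀_assoc, Ext.mk₀_comp_mk₀_assoc, ← Ext.add_comp, ← Ext.mk₀_add,
      biprod.total, Ext.mk₀_id_comp]
  constructor
  · rw [injective_iff_map_eq_zero]
    intro z hz
    have h1 : i.lTensor N z = 0 := (hP n).1 (by
      rw [map_zero]; exact (Φ_pre_apply ρ N σ hσ _ _ z).trans (by rw [hz, Ext.comp_zero]))
    have h2 : j.lTensor N z = 0 := (hQ n).1 (by
      rw [map_zero]; exact (Φ_pre_apply ρ N σ hσ _ _ z).trans (by rw [hz, Ext.comp_zero]))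
    have := congrArg (fun t => LinearMap.lTensor N t z) hid
    simp only [LinearMap.lTensor_add, LinearMap.lTensor_comp, LinearMap.add_apply,
      LinearMap.comp_apply, h1, h2, map_zero, add_zero, LinearMap.lTensor_id, LinearMap.id_apply] at this
    exact this.symm
  · intro w
    obtain ⟨x, hx⟩ := (hP n).2 ((Ext.mk₀ (biprod.inl : P ⟶ P ⊞ Q)).comp w (zero_add n))
    obtain ⟨y, hy⟩ := (hQ n).2 ((Ext.mk₀ (biprod.inr : Q ⟶ P ⊞ Q)).comp w (zero_add n))
    refine ⟨f.lTensor N x + g.lTensor N y, ?_⟩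
    rw [map_add, Φ_pre_apply, Φ_pre_apply, hx, hy]
    exact hdec w

variable [Module.Flat A N]

/-- The five lemma along a short exact sequence in the first variable. -/
theorem bij_X₃ {S : ShortComplex C} (hS : S.ShortExact) (h₁ : Bij ρ N σ hσ S.X₁)
    (h₂ : Bij ρ N σ hσ S.X₂) : Bij ρ N σ hσ S.X₃ := by
  intro n
  let := actModule ρ S.X₃ n
  let := actModule ρ S.X₂ n
  let := actModule ρ S.X₁ n
  let g := pre ρ (n := n) (Ext.mk₀ S.g) (zero_add n)
  let f := pre ρ (n := n) (Ext.mk₀ S.f) (zero_add n)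
  have ex₂ : ∀ {m : ℕ} (K : C), Function.Exact ((Ext.mk₀ S.g).precomp K (zero_add m))
      ((Ext.mk₀ S.f).precomp K (zero_add m)) := fun {m} K => by
    have h := Ext.contravariant_sequence_exact₂' hS K m
    rwa [ShortComplex.ab_exact_iff_function_exact] at h
  have eg : Function.Exact g f := ex₂ F
  cases n with
  | zero =>
    have inj : ∀ K : C, Function.Injective ((Ext.mk₀ S.g).precomp K (zero_add 0)) := fun K =>
      haveI := hS.epi_g
      Ext.precomp_mk₀_injective_of_epi K S.g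
    refine ⟨?_, AddMonoidHom.surjective_of_surjective_of_injective_of_left_exact
      (g.lTensor N).toAddMonoidHom (f.lTensor N).toAddMonoidHom ((Ext.mk₀ S.g).precomp G (zero_add 0))
      ((Ext.mk₀ S.f).precomp G (zero_add 0)) (Φ ρ N σ hσ S.X₃ 0) (Φ ρ N σ hσ S.X₂ 0) (Φ ρ N σ hσ S.X₁ 0)
      (Φ_pre ρ N σ hσ _ _).symm (Φ_pre ρ N σ hσ _ _).symm
      (Module.Flat.lTensor_exact N eg) (ex₂ G) (h₂ 0).2 (h₁ 0).1 (inj G)⟩
    rw [injective_iff_map_eq_zero]
    intro z hz
    refine Module.Flat.lTensor_preserves_injective_linearMap g (inj F) ?_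
    refine (h₂ 0).1 ?_
    rw [Φ_pre_apply, hz, Ext.comp_zero, map_zero, map_zero]
  | succ m =>
    let := actModule ρ S.X₂ m
    let := actModule ρ S.X₁ m
    let d := pre ρ (n := m) hS.extClass (Nat.add_comm 1 m)
    let f' := pre ρ (n := m) (Ext.mk₀ S.f) (zero_add m)
    have ex₁ : ∀ K : C, Function.Exact ((Ext.mk₀ S.f).precomp K (zero_add m))
        (hS.extClass.precomp K (Nat.add_comm 1 m)) := fun K => by
      have h := Ext.contravariant_sequence_exact₁' hS K m (m + 1) (Nat.add_comm 1 m)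
      rwa [ShortComplex.ab_exact_iff_function_exact] at h
    have ex₃ : ∀ K : C, Function.Exact (hS.extClass.precomp K (Nat.add_comm 1 m))
        ((Ext.mk₀ S.g).precomp K (zero_add (m + 1))) := fun K => by
      have h := Ext.contravariant_sequence_exact₃' hS K m (m + 1) (Nat.add_comm 1 m)
      rwa [ShortComplex.ab_exact_iff_function_exact] at h
    have e₁ : Function.Exact f' d := ex₁ F
    have e₃ : Function.Exact d g := ex₃ F
    exact AddMonoidHom.bijective_of_surjective_of_bijective_of_bijective_of_injective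
      (f'.lTensor N).toAddMonoidHom (d.lTensor N).toAddMonoidHom (g.lTensor N).toAddMonoidHom
      (f.lTensor N).toAddMonoidHom ((Ext.mk₀ S.f).precomp G (zero_add m))
      (hS.extClass.precomp G (Nat.add_comm 1 m)) ((Ext.mk₀ S.g).precomp G (zero_add (m + 1)))
      ((Ext.mk₀ S.f).precomp G (zero_add (m + 1)))
      (Φ ρ N σ hσ S.X₂ m) (Φ ρ N σ hσ S.X₁ m) (Φ ρ N σ hσ S.X₃ (m + 1)) (Φ ρ N σ hσ S.X₂ (m + 1))
      (Φ ρ N σ hσ S.X₁ (m + 1))
      (Φ_pre ρ N σ hσ _ _).symm (Φ_pre ρ N σ hσ _ _).symm (Φ_pre ρ N σ hσ _ _).symm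
      (Φ_pre ρ N σ hσ _ _).symm
      (Module.Flat.lTensor_exact N e₁) (Module.Flat.lTensor_exact N e₃)
      (Module.Flat.lTensor_exact N eg) (ex₁ G) (ex₃ G) (ex₂ G)
      (h₂ m).2 (h₁ m) (h₂ (m + 1)) (h₁ (m + 1)).1

end Abstract

section Scheme

open Groth.Agent.Lib.ZarCoh Groth.Agent.Lib.ZarCoh.Basic

variable {X : Scheme.{u}} {A : Type u} [CommRing A]
variable {F G : CohTop.Ab X.toPresheafedSpace.carrier} (ρ : A →+* End F)
variable (N : Type u) [AddCommGroup N] [Module A N] [Module.Flat A N]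
variable (σ : N →+ (F ⟶ G)) (hσ : ∀ (a : A) (x : N), σ (a • x) = ρ a ≫ σ x)

/-- Reduction to affine opens. -/
theorem bij_of_affine
    (h₀ : ∀ U : X.Opens, IsAffineOpen U → Function.Bijective (Φ ρ N σ hσ (Zs.obj U) 0))
    (hF : ∀ U : X.Opens, IsAffineOpen U → ∀ n, Subsingleton (CohTop.HU F (n + 1) U))
    (hG : ∀ U : X.Opens, IsAffineOpen U → ∀ n, Subsingleton (CohTop.HU G (n + 1) U))
    (T : X.Opens) (hT : IsQuasiSeparated (T : Set X))
    (S : X.Opens) (hST : S ≤ T) (hS : IsCompact (S : Set X)) :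
    Bij ρ N σ hσ (Zs.obj S) := by
  refine Induction.induction T hT (fun U => Bij ρ N σ hσ (Zs.obj U)) ?_ ?_ S hST hS
  · intro U _ hU n
    cases n with
    | zero => exact h₀ U hU
    | succ n =>
      let := actModule ρ (Zs.obj U) (n + 1)
      haveI : Subsingleton (Ext.{u} (Zs.obj U) F (n + 1)) := hF U hU n
      haveI : Subsingleton (Ext.{u} (Zs.obj U) G (n + 1)) := hG U hU n
      have hz : ∀ z : N ⊗[A] Ext.{u} (Zs.obj U) F (n + 1), z = 0 := fun z => by
        induction z using TensorProduct.induction_on with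
        | zero => rfl
        | tmul x y => rw [Subsingleton.elim y 0, TensorProduct.tmul_zero]
        | add a b ha hb => rw [ha, hb, add_zero]
      exact ⟨fun a b _ => (hz a).trans (hz b).symm, fun b => ⟨0, Subsingleton.elim _ _⟩⟩
  · intro U V _ _ _ _ hU hV hUV
    exact bij_X₃ ρ N σ hσ (Opens.mayerVietorisSquare U V).shortComplex_shortExact hUV
      (bij_biprod ρ N σ hσ hU hV)

end Scheme

end ZarCoh.FlatBC
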