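import Groth.Agent.Lib.ZarCoh.FlatBC.Ext
import Mathlib.CategoryTheory.Limits.Shapes.Biproducts
import Mathlib.LinearAlgebra.Finsupp.LinearCombination
import Mathlib.Algebra.Module.Projective

/-!
# Finite projective coefficients: the comparison maps are always bijective
-/

set_option autoImplicit false
set_option linter.style.haveILetI false
universe u

open CategoryTheory CategoryTheory.Limits CategoryTheory.Abelian TopologicalSpace AlgebraicGeometry
open Opposite
open Groth.Agent.Lib.ZarCoh Groth.Agent.Lib.ZarCoh.Basic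
open scoped TensorProduct

namespace ZarCoh.FlatBC.Proj

/-- A finite dual basis. -/
theorem exists_dual {A N : Type u} [CommRing A] [AddCommGroup N] [Module A N] [Module.Finite A N]
    [Module.Projective A N] :
    ∃ (m : ℕ) (e : Fin m → N) (f : Fin m → (N →ₗ[A] A)), ∀ x, ∑ i, f i x • e i = x := by
  obtain ⟨m, e, he⟩ := Module.Finite.exists_fin (R := A) (M := N)
  have hs : Function.Surjective (Fintype.linearCombination A e) := by
    rw [← LinearMap.range_eq_top, Fintype.range_linearCombination, he]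
  obtain ⟨s, hs'⟩ := Module.projective_lifting_property (Fintype.linearCombination A e) LinearMap.id hs
  refine ⟨m, e, fun i => (LinearMap.proj i).comp s, fun x => ?_⟩
  exact (Fintype.linearCombination_apply A e (s x)).symm.trans (LinearMap.congr_fun hs' x)

section Abstract

variable {C : Type*} [Category C] [Abelian C] [HasExt.{u} C]
variable {A : Type u} [CommRing A] {F G : C} (ρ : A →+* End F)
variable (N : Type u) [AddCommGroup N] [Module A N]
variable (σ : N →+ (F ⟶ G)) (hσ : ∀ (a : A) (x : N), σ (a • x) = ρ a ≫ σ x)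

/-- A dual family of morphisms inverts the comparison maps. -/
theorem bij_of_dual {m : ℕ} (e : Fin m → N) (f : Fin m → (N →ₗ[A] A))
    (hef : ∀ x, ∑ i, f i x • e i = x) (τ : Fin m → (G ⟶ F))
    (h₁ : ∑ i, τ i ≫ σ (e i) = 𝟙 G) (h₂ : ∀ b i, σ b ≫ τ i = ρ (f i b)) (P : C) :
    Bij ρ N σ hσ P := by
  intro n
  let := actModule ρ P n
  have hl : ∀ z : N ⊗[A] Ext.{u} P F n, ∑ i, e i ⊗ₜ[A]
      ((Φ ρ N σ hσ P n z).comp (Ext.mk₀ (τ i)) (add_zero n)) = z := by
    intro z
    induction z using TensorProduct.induction_on with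
    | zero => simp
    | tmul b y =>
      conv_rhs => rw [← hef b, TensorProduct.sum_tmul]
      refine Finset.sum_congr rfl fun i _ => ?_
      rw [Φ_tmul, Ext.comp_assoc_of_second_deg_zero, Ext.mk₀_comp_mk₀, h₂, TensorProduct.smul_tmul]
      rfl
    | add z z' hz hz' =>
      simp only [map_add, Ext.add_comp, TensorProduct.tmul_add, Finset.sum_add_distrib, hz, hz']
  refine ⟨fun a b hab => ?_, fun y => ⟨∑ i, e i ⊗ₜ[A] y.comp (Ext.mk₀ (τ i)) (add_zero n), ?_⟩⟩
  · rw [← hl a, ← hl b, hab]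
  · rw [map_sum]
    simp only [Φ_tmul, Ext.comp_assoc_of_second_deg_zero, Ext.mk₀_comp_mk₀]
    rw [← Ext.comp_sum, ← Ext.mk₀_sum, h₁, Ext.comp_mk₀_id]

end Abstract

variable {X : Scheme.{u}}

/-- Morphisms of abelian sheaves agree if they agree on sections over affine opens. -/
theorem hom_ext_affine {F G : CohTop.Ab X.toPresheafedSpace.carrier} (φ ψ : F ⟶ G)
    (h : ∀ U : X.Opens, IsAffineOpen U → ∀ g : Zs.obj U ⟶ F, g ≫ φ = g ≫ ψ) : φ = ψ := by
  ext V s
  refine TopCat.Presheaf.section_ext G V.unop _ _ fun x hx => ?_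
  obtain ⟨W, hW, hxW, hle⟩ := exists_isAffineOpen_mem_and_subset
    (X := X) (x := x) (U := V.unop) hx
  have hle' : W ≤ V.unop := hle
  have := congrArg (homEquiv W G) (h W hW ((homEquiv W F).symm (F.obj.map (homOfLE hle').op s)))
  simp only [homEquiv_comp, Equiv.apply_symm_apply] at this
  change φ.hom.app (op W) (F.obj.map (homOfLE hle').op s) =
    ψ.hom.app (op W) (F.obj.map (homOfLE hle').op s) at this
  have e : ∀ χ : F ⟶ G, χ.hom.app (op W) (F.obj.map (homOfLE hle').op s) =
      G.obj.map (homOfLE hle').op (χ.hom.app V s) := fun χ =>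
    ConcreteCategory.congr_hom (χ.hom.naturality (homOfLE hle').op) s
  rw [e φ, e ψ] at this
  have hg := congrArg (TopCat.Presheaf.germ G.obj W x hxW) this
  rw [TopCat.Presheaf.germ_res_apply, TopCat.Presheaf.germ_res_apply] at hg
  exact hg

variable {A : Type u} [CommRing A]
variable {F G : CohTop.Ab X.toPresheafedSpace.carrier} (ρ : A →+* End F)
variable (N : Type u) [AddCommGroup N] [Module A N] [Module.Finite A N] [Module.Projective A N]
variable (σ : N →+ (F ⟶ G)) (hσ : ∀ (a : A) (x : N), σ (a • x) = ρ a ≫ σ x)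

/-- For finite projective coefficients, degree zero on affines suffices. -/
theorem bij_of_affine (h₀ : ∀ U : X.Opens, IsAffineOpen U → Function.Bijective (Φ ρ N σ hσ (Zs.obj U) 0))
    (P : CohTop.Ab X.toPresheafedSpace.carrier) : Bij ρ N σ hσ P := by
  obtain ⟨m, e, f, hef⟩ := exists_dual (A := A) (N := N)
  haveI : HasFiniteBiproducts (CohTop.Ab X.toPresheafedSpace.carrier) :=
    HasFiniteBiproducts.of_hasFiniteCoproducts
  haveI : HasBiproduct (fun _ : Fin m => F) :=
    (HasFiniteBiproducts.out m).has_biproduct _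
  let v : (⨁ fun _ : Fin m => F) ⟶ G := biproduct.desc fun i => σ (e i)
  let E : ∀ j : Fin m, (⨁ fun _ : Fin m => F) ⟶ F := fun j =>
    biproduct.desc fun i => ρ (f j (e i))
  have hv : ∀ i, biproduct.ι (fun _ : Fin m => F) i ≫ v = σ (e i) := fun i => biproduct.ι_desc _ _
  have sum_eq : ∀ {U : X.Opens} (z : Zs.obj U ⟶ ⨁ fun _ : Fin m => F),
      ∑ i, (z ≫ biproduct.π _ i) ≫ σ (e i) = z ≫ v := fun {U} z => by
    rw [show v = _ from biproduct.desc_eq, Preadditive.comp_sum]
    simp only [Category.assoc]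
  have hepi : Epi v := ⟨fun φ ψ hφ => hom_ext_affine φ ψ fun U hU g => by
    let := actModule ρ (Zs.obj U) 0
    obtain ⟨z, hz⟩ := (h₀ U hU).2 (Ext.mk₀ g)
    have key : ∀ z : N ⊗[A] Ext.{u} (Zs.obj U) F 0, ∀ g : Zs.obj U ⟶ G,
        Φ ρ N σ hσ (Zs.obj U) 0 z = Ext.mk₀ g → ∃ x : Zs.obj U ⟶ ⨁ fun _ : Fin m => F, x ≫ v = g := by
      intro z
      induction z using TensorProduct.induction_on with
      | zero =>
        intro g hg
        rw [map_zero, ← Ext.mk₀_zero] at hg
        exact ⟨0, by rw [zero_comp]; exact (Ext.mk₀_bijective _ _).1 hg⟩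
      | tmul b y =>
        intro g hg
        obtain ⟨y, rfl⟩ := (Ext.mk₀_bijective _ _).2 y
        rw [Φ_tmul, Ext.mk₀_comp_mk₀] at hg
        refine ⟨biproduct.lift fun i => y ≫ ρ (f i b), ?_⟩
        rw [← (Ext.mk₀_bijective _ _).1 hg]
        conv_rhs => rw [← hef b, map_sum]
        simp [v, biproduct.lift_desc, hσ, Preadditive.comp_sum, Category.assoc]
      | add z z' hz hz' =>
        intro g hg
        obtain ⟨g₁, hg₁⟩ := (Ext.mk₀_bijective (Zs.obj U) G).2 (Φ ρ N σ hσ (Zs.obj U) 0 z)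
        obtain ⟨g₂, hg₂⟩ := (Ext.mk₀_bijective (Zs.obj U) G).2 (Φ ρ N σ hσ (Zs.obj U) 0 z')
        obtain ⟨x₁, hx₁⟩ := hz g₁ hg₁.symm
        obtain ⟨x₂, hx₂⟩ := hz' g₂ hg₂.symm
        refine ⟨x₁ + x₂, ?_⟩
        rw [Preadditive.add_comp, hx₁, hx₂]
        rw [map_add, ← hg₁, ← hg₂, ← Ext.mk₀_add] at hg
        exact (Ext.mk₀_bijective _ _).1 hg
    obtain ⟨x, rfl⟩ := key z g hz
    rw [Category.assoc, Category.assoc, hφ]⟩
  have hker : ∀ j, kernel.ι v ≫ E j = 0 := fun j => hom_ext_affine _ _ fun U hU k => by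
    let := actModule ρ (Zs.obj U) 0
    let z := k ≫ kernel.ι v
    have h0 : ∑ i, e i ⊗ₜ[A] (Ext.mk₀ (z ≫ biproduct.π _ i) : Ext.{u} (Zs.obj U) F 0) = 0 := by
      refine (h₀ U hU).1 ?_
      rw [map_sum, map_zero]
      simp only [Φ_tmul, Ext.mk₀_comp_mk₀]
      rw [← Ext.mk₀_sum, sum_eq, Category.assoc, kernel.condition, comp_zero, Ext.mk₀_zero]
    let c : N ⊗[A] Ext.{u} (Zs.obj U) F 0 →ₗ[A] Ext.{u} (Zs.obj U) F 0 :=
      (TensorProduct.lid A _).toLinearMap.comp ((f j).rTensor _)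
    have h1 := congrArg c h0
    rw [map_sum, map_zero] at h1
    rw [comp_zero, ← Category.assoc]
    refine (Ext.mk₀_bijective _ _).1 ?_
    rw [Ext.mk₀_zero, ← h1]
    have hz : z ≫ E j = ∑ i, (z ≫ biproduct.π _ i) ≫ ρ (f j (e i)) := by
      rw [show E j = _ from biproduct.desc_eq, Preadditive.comp_sum]
      simp only [Category.assoc]
    rw [hz, Ext.mk₀_sum]
    refine Finset.sum_congr rfl fun i _ => ?_
    rw [← Ext.mk₀_comp_mk₀]
    rfl
  haveI := hepi
  let τ : Fin m → (G ⟶ F) := fun j =>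
    (CokernelCofork.IsColimit.desc' (Abelian.epiIsCokernelOfKernel _ (kernelIsKernel v)) (E j) (hker j)).1
  have hτ : ∀ j, v ≫ τ j = E j := fun j =>
    (CokernelCofork.IsColimit.desc' (Abelian.epiIsCokernelOfKernel _ (kernelIsKernel v)) (E j) (hker j)).2
  refine bij_of_dual ρ N σ hσ e f hef τ ?_ ?_ P
  · rw [← cancel_epi v, Category.comp_id, Preadditive.comp_sum]
    refine biproduct.hom_ext' _ _ fun i => ?_
    rw [Preadditive.comp_sum, hv]
    conv_rhs => rw [← hef (e i), map_sum]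
    refine Finset.sum_congr rfl fun j _ => ?_
    rw [reassoc_of% (hτ j), hσ, biproduct.ι_desc_assoc]
  · intro b j
    conv_lhs => rw [← hef b, map_sum]
    rw [Preadditive.sum_comp]
    conv_rhs => rw [← hef b, map_sum, map_sum]
    refine Finset.sum_congr rfl fun i _ => ?_
    rw [hσ, Category.assoc, ← hv i, Category.assoc, hτ, biproduct.ι_desc, map_smul, smul_eq_mul,
      mul_comm, map_mul, End.mul_def]

end ZarCoh.FlatBC.Proj
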